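import Groth.Agent.PullFlat.Flat
import Groth.Prelude.Def_ModSite2
import Mathlib.Algebra.Category.ModuleCat.Stalk
import Mathlib.Topology.Sheaves.Stalks
import Mathlib.RingTheory.Flat.Basic
import Mathlib.RingTheory.IsTensorProduct

/-!
# Stalks of inverse images of modules on ringed spaces

For a morphism `(f, c)` of ringed spaces the stalk at `x` of `f^* M` is the base change of `M_{f x}`
along the map of stalks of the structure sheaves.
-/

set_option autoImplicit false
set_option backward.isDefEq.respectTransparency false
set_option backward.defeqAttrib.useBackward true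
set_option linter.style.haveILetI false
set_option linter.unusedSectionVars false

universe u

open CategoryTheory CategoryTheory.Limits TopologicalSpace Opposite
open scoped TensorProduct

noncomputable section

namespace Groth.Agent.RSpLib

open Groth.Agent.ModTensor

variable {X Y : TopCat.{u}} {O : TopCat.Sheaf CommRingCat.{u} X} {O' : TopCat.Sheaf CommRingCat.{u} Y}

/-- The stalk of a module at a point. -/
abbrev stk (M : ModSite.Mod O) (x : X) : AddCommGrpCat.{u} := TopCat.Presheaf.stalk (pre O M).presheaf x

/-- The stalk of the structure sheaf at a point. -/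
abbrev rstk (O : TopCat.Sheaf CommRingCat.{u} X) (x : X) : CommRingCat.{u} := TopCat.Presheaf.stalk O.obj x

/-- The germ of a section. -/
abbrev germ (M : ModSite.Mod O) {U : Opens X} {x : X} (hx : x ∈ U) :
    ((pre O M).obj (op U) : Type u) →+ stk M x :=
  (TopCat.Presheaf.germ (pre O M).presheaf U x hx).hom

theorem germ_smul' (M : ModSite.Mod O) {U : Opens X} {x : X} (hx : x ∈ U) (r : O.obj.obj (op U))
    (m : (pre O M).obj (op U)) :
    germ M hx (r • m) = TopCat.Presheaf.germ O.obj U x hx r • germ M hx m :=
  PresheafOfModules.germ_smul (R := O.obj) (pre O M) x U hx r m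

theorem germ_res (M : ModSite.Mod O) {U V : Opens X} (i : V ⟶ U) {x : X} (hx : x ∈ V)
    (m : (pre O M).obj (op U)) :
    germ M hx (res (pre O M) i.op m) = germ M (i.le hx) m :=
  TopCat.Presheaf.germ_res_apply (pre O M).presheaf i x hx m

/-- Sections are determined by their germs. -/
theorem section_ext (M : ModSite.Mod O) {U : Opens X} (s t : (pre O M).obj (op U))
    (h : ∀ (x : X) (hx : x ∈ U), germ M hx s = germ M hx t) : s = t :=
  TopCat.Presheaf.section_ext (F := (⟨(pre O M).presheaf, M.isSheaf⟩ : TopCat.Sheaf AddCommGrpCat.{u} X))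
    U s t h

/-- The map of stalks of a map of modules. -/
def stkMap {M N : ModSite.Mod O} (φ : M ⟶ N) (x : X) : stk M x →ₗ[rstk O x] stk N x where
  toFun := (TopCat.Presheaf.stalkFunctor AddCommGrpCat.{u} x).map
    ((PresheafOfModules.toPresheaf _).map ((preFunctor O).map φ))
  map_add' := map_add _
  map_smul' a z := by
    obtain ⟨V, hxV, a, rfl⟩ := TopCat.Presheaf.exists_germ_eq O.obj a
    obtain ⟨W, hxW, z, rfl⟩ := TopCat.Presheaf.exists_germ_eq (pre O M).presheaf z
    have hx : x ∈ V ⊓ W := ⟨hxV, hxW⟩
    rw [← TopCat.Presheaf.germ_res_apply O.obj (homOfLE (inf_le_left : V ⊓ W ≤ V)) x hx a,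
      ← TopCat.Presheaf.germ_res_apply (pre O M).presheaf (homOfLE (inf_le_right : V ⊓ W ≤ W)) x hx z]
    erw [← germ_smul' M hx, TopCat.Presheaf.stalkFunctor_map_germ_apply,
      TopCat.Presheaf.stalkFunctor_map_germ_apply]
    refine Eq.trans ?_ (germ_smul' N hx _ _)
    exact congrArg (germ N hx) (map_smul (lin ((preFunctor O).map φ) (op (V ⊓ W))) _ _)

theorem stkMap_germ {M N : ModSite.Mod O} (φ : M ⟶ N) {U : Opens X} {x : X} (hx : x ∈ U)
    (m : (pre O M).obj (op U)) :
    stkMap φ x (germ M hx m) = germ N hx (lin ((preFunctor O).map φ) (op U) m) :=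
  TopCat.Presheaf.stalkFunctor_map_germ_apply U x hx
    ((PresheafOfModules.toPresheaf _).map ((preFunctor O).map φ)) m

theorem stkMap_injective {M N : ModSite.Mod O} (φ : M ⟶ N) [Mono φ] (x : X) :
    Function.Injective (stkMap φ x) := by
  rw [injective_iff_map_eq_zero]
  intro z hz
  obtain ⟨U, hx, m, rfl⟩ := TopCat.Presheaf.exists_germ_eq (pre O M).presheaf z
  change stkMap φ x (germ M hx m) = 0 at hz
  rw [stkMap_germ, ← map_zero (germ N hx)] at hz
  obtain ⟨W, hxW, i, j, e⟩ := TopCat.Presheaf.germ_eq (pre O N).presheaf x hx hx _ _ hz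
  have h0 : res (pre O M) i.op m = 0 := Groth.Agent.PullFlat.injective_of_mono φ (op W) (by
    rw [map_zero]
    exact (lin_res ((preFunctor O).map φ) i.op m).trans (e.trans (map_zero (res (pre O N) j.op))))
  change germ M hx m = 0
  rw [show germ M hx m = germ M hxW (res (pre O M) i.op m) from (germ_res M i hxW m).symm, h0, map_zero]

theorem mono_of_stkMap_injective {M N : ModSite.Mod O} (φ : M ⟶ N)
    (h : ∀ x, Function.Injective (stkMap φ x)) : Mono φ := by
  haveI : Mono ((SheafOfModules.forget (ModSite.ringSh O)).map φ) :=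
    PresheafOfModules.mono_of_injective fun {U} a b hab => section_ext M a b fun x hx => h x (by
      rw [stkMap_germ, stkMap_germ]
      exact congrArg (germ N hx) hab)
  exact (SheafOfModules.forget (ModSite.ringSh O)).mono_of_mono_map inferInstance

/-! ### Skyscraper modules -/

section Sky

variable (x : X) (N : Type u) [AddCommGroup N] [Module (rstk O x) N]

/-- Sections of a skyscraper module. -/
def SkyObj (U : Opens X) : Type u := PLift (x ∈ U) → N

instance (U : Opens X) : AddCommGroup (SkyObj x N U) :=
  inferInstanceAs (AddCommGroup (PLift (x ∈ U) → N))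

/-- The skyscraper presheaf of abelian groups. -/
def skyAb : TopCat.Presheaf AddCommGrpCat.{u} X where
  obj U := AddCommGrpCat.of (SkyObj x N U.unop)
  map {U V} i := AddCommGrpCat.ofHom
    { toFun := fun s h => s ⟨i.unop.le h.down⟩
      map_zero' := rfl
      map_add' := fun _ _ => rfl }
  map_id _ := rfl
  map_comp _ _ := rfl

variable (O) in
/-- The module structure on the sections of a skyscraper module. -/
instance skyModule (U : (Opens X)ᵒᵖ) :
    Module ((O.obj ⋙ forget₂ CommRingCat.{u} RingCat.{u}).obj U) ((skyAb x N).obj U) where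
  smul a s h := TopCat.Presheaf.germ O.obj U.unop x h.down a • (show SkyObj x N U.unop from s) h
  one_smul s := funext fun h => by
    show TopCat.Presheaf.germ O.obj U.unop x h.down 1 • (show SkyObj x N U.unop from s) h = _
    rw [map_one, one_smul]
  mul_smul a b s := funext fun h => by
    show TopCat.Presheaf.germ O.obj U.unop x h.down (a * b) • (show SkyObj x N U.unop from s) h = _
    erw [map_mul, mul_smul]
    rfl
  smul_zero a := funext fun h => by
    show TopCat.Presheaf.germ O.obj U.unop x h.down a • (0 : N) = 0
    rw [smul_zero]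
  smul_add a s t := funext fun h =>
    smul_add (TopCat.Presheaf.germ O.obj U.unop x h.down a) ((show SkyObj x N U.unop from s) h)
      ((show SkyObj x N U.unop from t) h)
  add_smul a b s := funext fun h => by
    show TopCat.Presheaf.germ O.obj U.unop x h.down (a + b) • (show SkyObj x N U.unop from s) h = _
    erw [map_add, add_smul]
    rfl
  zero_smul s := funext fun h => by
    show TopCat.Presheaf.germ O.obj U.unop x h.down 0 • (show SkyObj x N U.unop from s) h = 0
    rw [map_zero, zero_smul]

variable (O) in
/-- The skyscraper presheaf of modules. -/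
def skyPre : PMod O.obj :=
  PresheafOfModules.ofPresheaf (R := O.obj ⋙ forget₂ CommRingCat.{u} RingCat.{u}) (skyAb x N)
    fun U V i r s => funext fun h => by
      show TopCat.Presheaf.germ O.obj U.unop x (i.unop.le h.down) r •
          (show SkyObj x N U.unop from s) ⟨i.unop.le h.down⟩ =
        TopCat.Presheaf.germ O.obj V.unop x h.down (O.obj.map i r) •
          (show SkyObj x N U.unop from s) ⟨i.unop.le h.down⟩
      rw [show i = i.unop.op from rfl, TopCat.Presheaf.germ_res_apply]

omit [Module (rstk O x) N] in
theorem skyAb_isSheaf : TopCat.Presheaf.IsSheaf (skyAb x N) := by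
  rw [TopCat.Presheaf.isSheaf_iff_isSheafUniqueGluing]
  intro ι U sf hsf
  classical
  have hx : ∀ h : x ∈ iSup U, ∃ i, x ∈ U i := fun h => Opens.mem_iSup.mp h
  refine ⟨fun h => sf (hx h.down).choose ⟨(hx h.down).choose_spec⟩, fun i => ?_, fun s hs => ?_⟩
  · funext h
    exact congrFun (hsf (hx ((le_iSup U i) h.down)).choose i)
      ⟨⟨(hx ((le_iSup U i) h.down)).choose_spec, h.down⟩⟩
  · funext h
    exact congrFun (hs (hx h.down).choose) ⟨(hx h.down).choose_spec⟩

variable (O) in
/-- The skyscraper module. -/
def sky : ModSite.Mod O where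
  val := skyPre O x N
  isSheaf := skyAb_isSheaf x N

variable {x N}

/-- Maps into a skyscraper module from maps of the stalk. -/
def toSky {M : ModSite.Mod O} (l : stk M x →ₗ[rstk O x] N) : M ⟶ sky O x N where
  val := PresheafOfModules.homMk
    { app := fun U => AddCommGrpCat.ofHom
        (show ((pre O M).obj U : Type u) →+ SkyObj x N U.unop from
        { toFun := fun m h => l (germ M h.down m)
          map_zero' := funext fun h => by rw [map_zero, map_zero]; rfl
          map_add' := fun a b => funext fun h => by
            show l (germ M h.down (a + b)) = _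
            rw [map_add, map_add]
            rfl })
      naturality := fun U V i => by
        ext m
        funext h
        exact congrArg l (germ_res M i.unop h.down m) }
    fun U r m => funext fun h => by
      show l (germ M h.down (r • m)) = TopCat.Presheaf.germ O.obj U.unop x h.down r • l (germ M h.down m)
      rw [← map_smul]
      exact congrArg l (germ_smul' M h.down r m)

/-- The value of a map into a skyscraper module. -/
abbrev skyVal {M : ModSite.Mod O} (ψ : M ⟶ sky O x N) {U : Opens X} (m : (pre O M).obj (op U))
    (hx : x ∈ U) : N :=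
  (show SkyObj x N U from lin ((preFunctor O).map ψ) (op U) m) ⟨hx⟩

/-- The cocone given by a map to a skyscraper module. -/
def skyCocone {M : ModSite.Mod O} (ψ : M ⟶ sky O x N) :
    Cocone ((OpenNhds.inclusion x).op ⋙ (pre O M).presheaf) where
  pt := AddCommGrpCat.of N
  ι :=
    { app := fun U => AddCommGrpCat.ofHom
        { toFun := fun m => skyVal ψ (U := U.unop.1) m U.unop.2
          map_zero' := by
            show (show SkyObj x N U.unop.1 from lin ((preFunctor O).map ψ) (op U.unop.1) 0) _ = 0
            rw [map_zero]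
            rfl
          map_add' := fun a b => congrFun (map_add (lin ((preFunctor O).map ψ) (op U.unop.1)) a b) _ }
      naturality := fun U V i => by
        ext m
        exact congrFun (lin_res ((preFunctor O).map ψ) ((OpenNhds.inclusion x).op.map i) m) ⟨V.unop.2⟩ }

/-- The map of the stalk given by a map to a skyscraper module. -/
def ofSky {M : ModSite.Mod O} (ψ : M ⟶ sky O x N) : stk M x →ₗ[rstk O x] N :=
  let φ : stk M x →+ N := (colimit.desc _ (skyCocone ψ)).hom
  have hφ : ∀ (U : Opens X) (hx : x ∈ U) (m : (pre O M).obj (op U)),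
      φ (germ M hx m) = skyVal ψ m hx := fun U hx m =>
    ConcreteCategory.congr_hom (colimit.ι_desc (skyCocone ψ) (op (⟨U, hx⟩ : OpenNhds x))) m
  { toFun := φ
    map_add' := map_add φ
    map_smul' := fun a z => by
      obtain ⟨V, hxV, a, rfl⟩ := TopCat.Presheaf.exists_germ_eq O.obj a
      obtain ⟨W, hxW, z, rfl⟩ := TopCat.Presheaf.exists_germ_eq (pre O M).presheaf z
      have hx : x ∈ V ⊓ W := ⟨hxV, hxW⟩
      rw [← TopCat.Presheaf.germ_res_apply O.obj (homOfLE (inf_le_left : V ⊓ W ≤ V)) x hx a,
        ← TopCat.Presheaf.germ_res_apply (pre O M).presheaf (homOfLE (inf_le_right : V ⊓ W ≤ W)) x hx z]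
      erw [← germ_smul' M hx, hφ, hφ]
      exact congrFun (map_smul (lin ((preFunctor O).map ψ) (op (V ⊓ W))) _ _) ⟨hx⟩ }

theorem ofSky_germ {M : ModSite.Mod O} (ψ : M ⟶ sky O x N) {U : Opens X} (hx : x ∈ U)
    (m : (pre O M).obj (op U)) : ofSky ψ (germ M hx m) = skyVal ψ m hx :=
  ConcreteCategory.congr_hom (colimit.ι_desc (skyCocone ψ) (op (⟨U, hx⟩ : OpenNhds x))) m

end Sky

/-! ### Inverse images -/

section Pull

variable (f : X ⟶ Y)
  (c : O' ⟶ ((Opens.map f).sheafPushforwardContinuous CommRingCat.{u}
    (Opens.grothendieckTopology Y) (Opens.grothendieckTopology X)).obj O)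

/-- The morphism of ringed sites of a morphism of ringed spaces. -/
abbrev rm : ModSite.RMor O O' := ModSite.RMor.ofFlat (Opens.map f) c

/-- The map of stalks of the structure sheaves. -/
abbrev rstkMap (x : X) : rstk O' (f x) ⟶ rstk O x :=
  ((TopCat.Presheaf.stalkFunctor CommRingCat.{u} (f x)).map
      (show O'.presheaf ⟶ (TopCat.Presheaf.pushforward CommRingCat.{u} f).obj O.presheaf from c.hom) ≫
    TopCat.Presheaf.stalkPushforward CommRingCat.{u} f O.presheaf x)

theorem rstkMap_germ {U : Opens Y} {x : X} (hx : f x ∈ U) (a : O'.obj.obj (op U)) :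
    (rstkMap f c x).hom (TopCat.Presheaf.germ O'.obj U (f x) hx a) =
      TopCat.Presheaf.germ O.obj ((Opens.map f).obj U) x hx ((c.hom.app (op U)).hom a) := by
  refine (congrArg (TopCat.Presheaf.stalkPushforward CommRingCat.{u} f O.presheaf x)
    (TopCat.Presheaf.stalkFunctor_map_germ_apply U (f x) hx _ a)).trans ?_
  exact congr($(TopCat.Presheaf.stalkPushforward_germ CommRingCat.{u} f O.presheaf U x hx) _)

variable (M : ModSite.Mod O')

/-- The unit on sections. -/
abbrev unitS {U : Opens Y} (m : (pre O' M).obj (op U)) :
    (pre O ((rm f c).pull.obj M)).obj (op ((Opens.map f).obj U)) :=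
  lin ((preFunctor O').map ((rm f c).adj.unit.app M)) (op U) m

/-- The cocone of germs of pulled back sections. -/
def pullCocone (x : X) : Cocone ((OpenNhds.inclusion (f x)).op ⋙ (pre O' M).presheaf) where
  pt := stk ((rm f c).pull.obj M) x
  ι :=
    { app := fun U => AddCommGrpCat.ofHom
        { toFun := fun m => germ ((rm f c).pull.obj M) (U := (Opens.map f).obj U.unop.1) U.unop.2
            (unitS f c M m)
          map_zero' := (congrArg (germ ((rm f c).pull.obj M) _)
            (map_zero (lin ((preFunctor O').map ((rm f c).adj.unit.app M)) (op U.unop.1)))).trans (map_zero _)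
          map_add' := fun a b => (congrArg (germ ((rm f c).pull.obj M) _)
            (map_add (lin ((preFunctor O').map ((rm f c).adj.unit.app M)) (op U.unop.1)) a b)).trans
              (map_add _ _ _) }
      naturality := fun U V i => by
        ext m
        exact (congrArg (germ ((rm f c).pull.obj M) _)
          (lin_res ((preFunctor O').map ((rm f c).adj.unit.app M)) ((OpenNhds.inclusion (f x)).op.map i) m)).trans
            (germ_res ((rm f c).pull.obj M) ((Opens.map f).map ((OpenNhds.inclusion (f x)).map i.unop))
              V.unop.2 (unitS f c M m)) }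

/-- The canonical map of stalks. -/
def pullStk (x : X) : stk M (f x) →+ stk ((rm f c).pull.obj M) x :=
  (colimit.desc _ (pullCocone f c M x)).hom

theorem pullStk_germ {U : Opens Y} {x : X} (hx : f x ∈ U) (m : (pre O' M).obj (op U)) :
    pullStk f c M x (germ M hx m) =
      germ ((rm f c).pull.obj M) (U := (Opens.map f).obj U) hx (unitS f c M m) :=
  ConcreteCategory.congr_hom (colimit.ι_desc (pullCocone f c M x) (op (⟨U, hx⟩ : OpenNhds (f x)))) m

theorem pullStk_smul {x : X} (a : rstk O' (f x)) (z : stk M (f x)) :
    pullStk f c M x (a • z) = (rstkMap f c x).hom a • pullStk f c M x z := by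
  obtain ⟨V, hxV, a, rfl⟩ := TopCat.Presheaf.exists_germ_eq O'.obj a
  obtain ⟨W, hxW, z, rfl⟩ := TopCat.Presheaf.exists_germ_eq (pre O' M).presheaf z
  have hx : f x ∈ V ⊓ W := ⟨hxV, hxW⟩
  rw [← TopCat.Presheaf.germ_res_apply O'.obj (homOfLE (inf_le_left : V ⊓ W ≤ V)) (f x) hx a,
    ← TopCat.Presheaf.germ_res_apply (pre O' M).presheaf (homOfLE (inf_le_right : V ⊓ W ≤ W)) (f x) hx z]
  erw [← germ_smul' M hx, pullStk_germ, pullStk_germ, rstkMap_germ, ← germ_smul']
  exact congrArg (germ ((rm f c).pull.obj M) _)
    (map_smul (lin ((preFunctor O').map ((rm f c).adj.unit.app M)) (op (V ⊓ W))) _ _)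

/-- The map of stalks, linear over the stalk downstairs. -/
def pullStkL (x : X) :
    letI := Module.compHom (stk ((rm f c).pull.obj M) x) (rstkMap f c x).hom
    stk M (f x) →ₗ[rstk O' (f x)] stk ((rm f c).pull.obj M) x :=
  letI := Module.compHom (stk ((rm f c).pull.obj M) x) (rstkMap f c x).hom
  { pullStk f c M x with map_smul' := fun a z => pullStk_smul f c M a z }

/-- The stalk of an inverse image is a base change. -/
theorem isBaseChange_pullStkL (x : X) :
    letI : Algebra (rstk O' (f x)) (rstk O x) := (rstkMap f c x).hom.toAlgebra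
    letI := Module.compHom (stk ((rm f c).pull.obj M) x) (rstkMap f c x).hom
    haveI : IsScalarTower (rstk O' (f x)) (rstk O x) (stk ((rm f c).pull.obj M) x) :=
      .of_algebraMap_smul fun _ _ => rfl
    IsBaseChange (rstk O x) (pullStkL f c M x) := by
  letI : Algebra (rstk O' (f x)) (rstk O x) := (rstkMap f c x).hom.toAlgebra
  letI : Module (rstk O' (f x)) (stk ((rm f c).pull.obj M) x) :=
    Module.compHom (stk ((rm f c).pull.obj M) x) (rstkMap f c x).hom
  haveI : IsScalarTower (rstk O' (f x)) (rstk O x) (stk ((rm f c).pull.obj M) x) :=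
    .of_algebraMap_smul fun _ _ => rfl
  show IsBaseChange (rstk O x) (pullStkL f c M x)
  refine IsBaseChange.of_lift_unique _ fun Q _ _ _ _ l => ?_
  letI : AddCommGroup Q := Module.addCommMonoidToAddCommGroup (rstk O x)
  let T := sky O x Q
  let ψ0 : M ⟶ (rm f c).push.obj T :=
    { val := PresheafOfModules.homMk
        { app := fun U => AddCommGrpCat.ofHom
            (show ((pre O' M).obj U : Type u) →+ SkyObj x Q ((Opens.map f).obj U.unop) from
            { toFun := fun m h => l (germ M (U := U.unop) h.down m)
              map_zero' := funext fun h => by rw [map_zero, map_zero]; rfl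
              map_add' := fun a b => funext fun h => by
                show l (germ M (U := U.unop) h.down (a + b)) = _
                rw [map_add, map_add]
                rfl })
          naturality := fun U V i => by
            ext m
            funext h
            exact congrArg l (germ_res M i.unop h.down m) }
        fun U r m => funext fun h => by
          show l (germ M (U := U.unop) h.down (r • m)) =
            TopCat.Presheaf.germ O.obj ((Opens.map f).obj U.unop) x h.down ((c.hom.app U).hom r) •
              l (germ M (U := U.unop) h.down m)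
          rw [← rstkMap_germ, show (rstkMap f c x).hom (TopCat.Presheaf.germ O'.obj U.unop (f x) h.down r) =
            algebraMap (rstk O' (f x)) (rstk O x) (TopCat.Presheaf.germ O'.obj U.unop (f x) h.down r) from rfl,
            algebraMap_smul, ← map_smul]
          exact congrArg l (germ_smul' M h.down r m) }
  have key : ∀ (Ψ : (rm f c).pull.obj M ⟶ T) {U : Opens Y} (hx : f x ∈ U) (m : (pre O' M).obj (op U)),
      ofSky Ψ (pullStkL f c M x (germ M hx m)) =
        (show SkyObj x Q ((Opens.map f).obj U) from
          lin ((preFunctor O').map ((rm f c).adj.homEquiv M T Ψ)) (op U) m) ⟨hx⟩ := by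
    intro Ψ U hx m
    refine (congrArg (ofSky Ψ) (pullStk_germ f c M hx m)).trans ?_
    refine (ofSky_germ Ψ (U := (Opens.map f).obj U) hx _).trans ?_
    rw [Adjunction.homEquiv_unit]
    rfl
  refine ⟨ofSky (((rm f c).adj.homEquiv M T).symm ψ0), LinearMap.ext fun z => ?_, fun L hL => ?_⟩
  · obtain ⟨U, hx, m, rfl⟩ := TopCat.Presheaf.exists_germ_eq (pre O' M).presheaf z
    refine (key _ hx m).trans ?_
    rw [Equiv.apply_symm_apply]
    rfl
  · have hL' : ofSky (toSky L) = L := LinearMap.ext fun w => by
      obtain ⟨V, hV, w, rfl⟩ := TopCat.Presheaf.exists_germ_eq (pre O ((rm f c).pull.obj M)).presheaf w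
      exact ofSky_germ (toSky L) hV w
    have h0 : (rm f c).adj.homEquiv M T (toSky L) = ψ0 := by
      refine SheafOfModules.hom_ext (PresheafOfModules.hom_ext fun U => ModuleCat.hom_ext
        (LinearMap.ext fun m => funext fun h => ?_))
      refine (key (toSky L) (U := U.unop) h.down m).symm.trans ?_
      rw [hL']
      exact LinearMap.congr_fun hL _
    rw [← h0, Equiv.symm_apply_apply, hL']

theorem pullStk_natural {M N : ModSite.Mod O'} (φ : M ⟶ N) (x : X) (z : stk M (f x)) :
    stkMap ((rm f c).pull.map φ) x (pullStk f c M x z) = pullStk f c N x (stkMap φ (f x) z) := by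
  obtain ⟨U, hx, m, rfl⟩ := TopCat.Presheaf.exists_germ_eq (pre O' M).presheaf z
  erw [pullStk_germ, stkMap_germ, stkMap_germ, pullStk_germ]
  exact congrArg (germ ((rm f c).pull.obj N) (U := (Opens.map f).obj U) hx)
    (congr(($((rm f c).adj.unit.naturality φ)).val.app (op U) m)).symm

/-- Inverse images along flat maps preserve monomorphisms. -/
theorem mono_pull_of_flat (h : ∀ x : X, (rstkMap f c x).hom.Flat) {M N : ModSite.Mod O'} (φ : M ⟶ N)
    [Mono φ] : Mono ((rm f c).pull.map φ) := by
  refine mono_of_stkMap_injective _ fun x => ?_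
  letI : Algebra (rstk O' (f x)) (rstk O x) := (rstkMap f c x).hom.toAlgebra
  haveI : Module.Flat (rstk O' (f x)) (rstk O x) := h x
  letI := Module.compHom (stk ((rm f c).pull.obj M) x) (rstkMap f c x).hom
  letI := Module.compHom (stk ((rm f c).pull.obj N) x) (rstkMap f c x).hom
  haveI : IsScalarTower (rstk O' (f x)) (rstk O x) (stk ((rm f c).pull.obj M) x) :=
    .of_algebraMap_smul fun _ _ => rfl
  haveI : IsScalarTower (rstk O' (f x)) (rstk O x) (stk ((rm f c).pull.obj N) x) :=
    .of_algebraMap_smul fun _ _ => rfl
  have hM := isBaseChange_pullStkL f c M x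
  have hN := isBaseChange_pullStkL f c N x
  have hsq : ∀ z, stkMap ((rm f c).pull.map φ) x (hM.equiv z) =
      hN.equiv ((stkMap φ (f x)).lTensor (rstk O x) z) := fun z => by
    induction z with
    | zero => simp
    | add p q hp hq => simp only [map_add, hp, hq]
    | tmul b m =>
      rw [LinearMap.lTensor_tmul, IsBaseChange.equiv_tmul, IsBaseChange.equiv_tmul, map_smul]
      exact congrArg (b • ·) (pullStk_natural f c φ x m)
  intro a b hab
  obtain ⟨a, rfl⟩ := hM.equiv.surjective a
  obtain ⟨b, rfl⟩ := hM.equiv.surjective b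
  rw [hsq, hsq] at hab
  exact congrArg hM.equiv (Module.Flat.lTensor_preserves_injective_linearMap _
    (stkMap_injective φ (f x)) (hN.equiv.injective hab))

/-- Inverse images along flat maps of ringed spaces are exact. -/
theorem isFlat_of_stalks (h : ∀ x : X, (rstkMap f c x).hom.Flat) : (rm f c).IsFlat := by
  haveI : PreservesFiniteColimits (rm f c).pull := by
    haveI := (rm f c).adj.leftAdjoint_preservesColimits
    infer_instance
  haveI : (rm f c).pull.Additive := by
    haveI := preservesBinaryBiproducts_of_preservesBinaryCoproducts (rm f c).pull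
    exact Functor.additive_of_preservesBinaryBiproducts _
  show PreservesFiniteLimits (rm f c).pull
  refine (Functor.preservesFiniteLimits_iff_forall_exact_map_and_mono _).2 fun S hS => ?_
  haveI := hS.mono_f
  haveI := hS.epi_g
  haveI := mono_pull_of_flat f c h S.f
  exact ⟨hS.exact.map_of_epi_of_preservesCokernel _ inferInstance inferInstance, inferInstance⟩

end Pull

end Groth.Agent.RSpLib
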