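import Groth.Agent.RSpLib.PullStalk
import Groth.Agent.FPLocal.OpensPt
import Groth.Agent.PullFlat.InvRing

/-!
# Stalks at points of the site of opens and stalks on the space

The stalk of the inverse image `f⁻¹O'` at the point of the site of opens given by `x` is the stalk of
`O'` at `f x`; flatness over it is flatness over `O'_{f x}`.
-/

set_option autoImplicit false
set_option backward.isDefEq.respectTransparency false
set_option linter.style.haveILetI false
set_option linter.unusedSectionVars false

universe u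

open CategoryTheory CategoryTheory.Limits TopologicalSpace Opposite

noncomputable section

namespace Groth.Agent.RSpLib

open Groth.Agent.ModTensor
open Groth.Agent.FPLocal (pt fib fib_mem)
open Groth.Agent.PullFlat (invRMor shRes Loc)

variable {X Y : TopCat.{u}} {O : TopCat.Sheaf CommRingCat.{u} X} {O' : TopCat.Sheaf CommRingCat.{u} Y}

theorem exists_mem_of_loc {U : Opens X} {P : ∀ ⦃W : Opens X⦄, (W ⟶ U) → Prop}
    (h : Loc (Opens.grothendieckTopology X) U P) {x : X} (hx : x ∈ U) :
    ∃ (W : Opens X) (g : W ⟶ U), x ∈ W ∧ P g := by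
  obtain ⟨S, hS, h⟩ := h
  obtain ⟨W, g, hg, hW⟩ := (Opens.mem_grothendieckTopology X).1 hS x hx
  exact ⟨W, g, hW, h g hg⟩

/-- The cocone of germs at the point. -/
def ptCocone (M : ModSite.Mod O) (x : X) : Cocone ((OpenNhds.inclusion x).op ⋙ (pre O M).presheaf) where
  pt := ModSite.stalkAb (pt x) M
  ι :=
    { app := fun U => AddCommGrpCat.ofHom (germHom (pt x) M U.unop.1 (fib U.unop.2))
      naturality := fun U V i => by
        ext m
        exact germHom_res (pt x) M ((OpenNhds.inclusion x).map i.unop) (fib V.unop.2) m }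

/-- The comparison of stalks of modules. -/
def ptStk (M : ModSite.Mod O) (x : X) : stk M x →+ ModSite.stalkAb (pt x) M :=
  (colimit.desc _ (ptCocone M x)).hom

theorem ptStk_germ (M : ModSite.Mod O) {U : Opens X} {x : X} (hx : x ∈ U) (m : (pre O M).obj (op U)) :
    ptStk M x (germ M hx m) = germHom (pt x) M U (fib hx) m :=
  ConcreteCategory.congr_hom (colimit.ι_desc (ptCocone M x) (op (⟨U, hx⟩ : OpenNhds x))) m

theorem ptStk_bijective (M : ModSite.Mod O) (x : X) : Function.Bijective (ptStk M x) := by
  refine ⟨(injective_iff_map_eq_zero _).2 fun z hz => ?_, fun z => ?_⟩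
  · obtain ⟨U, hx, m, rfl⟩ := TopCat.Presheaf.exists_germ_eq (pre O M).presheaf z
    change ptStk M x (germ M hx m) = 0 at hz
    rw [ptStk_germ] at hz
    obtain ⟨W, g, hW, e⟩ := Groth.Agent.FPLocal.near_of_germ_eq M hx m 0
      (hz.trans (map_zero (Groth.Agent.FPLocal.germ M hx)).symm)
    change germ M hx m = 0
    rw [show germ M hx m = germ M hW (res (pre O M) g.op m) from (germ_res M g hW m).symm]
    refine (congrArg (germ M hW) e).trans ?_
    exact (congrArg (germ M hW) (map_zero (res (pre O M) g.op))).trans (map_zero _)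
  · obtain ⟨U, hx, m, rfl⟩ := Groth.Agent.FPLocal.exists_germ M x z
    exact ⟨germ M hx m, ptStk_germ M hx m⟩

/-- The cocone of germs of functions at the point. -/
def ptRingCocone (O : TopCat.Sheaf CommRingCat.{u} X) (x : X) :
    Cocone ((OpenNhds.inclusion x).op ⋙ O.obj) where
  pt := ModSite.stalkRing (pt x) O
  ι :=
    { app := fun U => CommRingCat.ofHom (germRingHom (pt x) (O := O) U.unop.1 (fib U.unop.2))
      naturality := fun U V i => by
        ext m
        exact germRingHom_ores (pt x) (O := O) ((OpenNhds.inclusion x).map i.unop) (fib V.unop.2) m }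

/-- The comparison of stalks of the structure sheaf. -/
def ptRing (O : TopCat.Sheaf CommRingCat.{u} X) (x : X) : rstk O x →+* ModSite.stalkRing (pt x) O :=
  (colimit.desc _ (ptRingCocone O x)).hom

theorem ptRing_germ {U : Opens X} {x : X} (hx : x ∈ U) (r : O.obj.obj (op U)) :
    ptRing O x (TopCat.Presheaf.germ O.obj U x hx r) = germRingHom (pt x) (O := O) U (fib hx) r :=
  ConcreteCategory.congr_hom (colimit.ι_desc (ptRingCocone O x) (op (⟨U, hx⟩ : OpenNhds x))) r

theorem ptStk_smul (M : ModSite.Mod O) {x : X} (a : rstk O x) (z : stk M x) :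
    ptStk M x (a • z) = ptRing O x a • ptStk M x z := by
  obtain ⟨V, hxV, a, rfl⟩ := TopCat.Presheaf.exists_germ_eq O.obj a
  obtain ⟨W, hxW, z, rfl⟩ := TopCat.Presheaf.exists_germ_eq (pre O M).presheaf z
  have hx : x ∈ V ⊓ W := ⟨hxV, hxW⟩
  rw [← TopCat.Presheaf.germ_res_apply O.obj (homOfLE (inf_le_left : V ⊓ W ≤ V)) x hx a,
    ← TopCat.Presheaf.germ_res_apply (pre O M).presheaf (homOfLE (inf_le_right : V ⊓ W ≤ W)) x hx z]
  erw [← germ_smul' M hx, ptStk_germ, ptStk_germ, ptRing_germ]
  exact germHom_smul (pt x) M (V ⊓ W) (fib hx) _ _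

variable (f : X ⟶ Y)
  (c : O' ⟶ ((Opens.map f).sheafPushforwardContinuous CommRingCat.{u}
    (Opens.grothendieckTopology Y) (Opens.grothendieckTopology X)).obj O)

/-- The cocone of germs of pulled back functions. -/
def invCocone (x : X) : Cocone ((OpenNhds.inclusion (f x)).op ⋙ O'.obj) where
  pt := ModSite.stalkRing (pt x) (rm f c).invRing
  ι :=
    { app := fun U => CommRingCat.ofHom
        ((germRingHom (pt x) (O := (rm f c).invRing) ((Opens.map f).obj U.unop.1) (fib U.unop.2)).comp
          ((invRMor (rm f c)).sharp.hom.app (op U.unop.1)).hom)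
      naturality := fun U V i => by
        ext m
        refine (congrArg (germRingHom (pt x) (O := (rm f c).invRing) ((Opens.map f).obj V.unop.1) (fib V.unop.2))
          (congr(($((invRMor (rm f c)).sharp.hom.naturality ((OpenNhds.inclusion (f x)).op.map i))).hom m))).trans ?_
        exact germRingHom_ores (pt x) (O := (rm f c).invRing)
          ((Opens.map f).map ((OpenNhds.inclusion (f x)).map i.unop)) (fib V.unop.2) _ }

/-- The comparison with the stalk of the inverse image of the structure sheaf. -/
def invStk (x : X) : rstk O' (f x) →+* ModSite.stalkRing (pt x) (rm f c).invRing :=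
  (colimit.desc _ (invCocone f c x)).hom

theorem invStk_germ {U : Opens Y} {x : X} (hx : f x ∈ U) (r : O'.obj.obj (op U)) :
    invStk f c x (TopCat.Presheaf.germ O'.obj U (f x) hx r) =
      germRingHom (pt x) (O := (rm f c).invRing) ((Opens.map f).obj U) (fib (U := (Opens.map f).obj U) hx)
        (((invRMor (rm f c)).sharp.hom.app (op U)).hom r) :=
  ConcreteCategory.congr_hom (colimit.ι_desc (invCocone f c x) (op (⟨U, hx⟩ : OpenNhds (f x)))) r

theorem invStk_germ' {U : Opens Y} {W : Opens X} (ψ : W ⟶ (Opens.map f).obj U) {x : X} (hx : x ∈ W)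
    (r : O'.obj.obj (op U)) :
    invStk f c x (TopCat.Presheaf.germ O'.obj U (f x) (ψ.le hx) r) =
      germRingHom (pt x) (O := (rm f c).invRing) W (fib hx) (shRes (invRMor (rm f c)) ψ r) := by
  rw [invStk_germ]
  exact (germRingHom_ores (pt x) (O := (rm f c).invRing) ψ (fib hx) _).symm

theorem invStk_bijective (x : X) : Function.Bijective (invStk f c x) := by
  refine ⟨(injective_iff_map_eq_zero _).2 fun z hz => ?_, fun z => ?_⟩
  · obtain ⟨U, hx, r, rfl⟩ := TopCat.Presheaf.exists_germ_eq O'.obj z
    rw [invStk_germ, ← map_zero (germRingHom (pt x) (O := (rm f c).invRing) ((Opens.map f).obj U)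
      (fib (U := (Opens.map f).obj U) hx))] at hz
    obtain ⟨W, g, w, -, hw⟩ :=
      ((pt x).toPresheafFiber_eq_iff' (P := (rm f c).invRing.obj) ((Opens.map f).obj U)
        (fib (U := (Opens.map f).obj U) hx) _ _).1 hz
    have h0 : shRes (invRMor (rm f c)) g r = 0 := hw.trans (map_zero (ores (rm f c).invRing g.op))
    obtain ⟨W', k, hW', V, a, ψ, -, hr⟩ :=
      exists_mem_of_loc (Groth.Agent.PullFlat.loc_of_shRes_eq_zero (rm f c) g r h0) (fib_mem w)
    rw [← TopCat.Presheaf.germ_res_apply O'.obj a (f x) (ψ.le hW') r]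
    exact (congrArg (TopCat.Presheaf.germ O'.obj V (f x) (ψ.le hW')) hr).trans (map_zero _)
  · obtain ⟨W, w, s, rfl⟩ := (pt x).toPresheafFiber_jointly_surjective (P := (rm f c).invRing.obj) z
    obtain ⟨W', g, hW', V, ψ, β, hβ⟩ :=
      exists_mem_of_loc (Groth.Agent.PullFlat.loc_exists_inv (rm f c) fun _ : PUnit.{1} => s) (fib_mem w)
    refine ⟨TopCat.Presheaf.germ O'.obj V (f x) (ψ.le hW') (β PUnit.unit), ?_⟩
    rw [invStk_germ' f c ψ hW', ← hβ PUnit.unit]
    exact germRingHom_ores (pt x) (O := (rm f c).invRing) g (fib hW') s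

theorem invSharp_invStk (x : X) (a : rstk O' (f x)) :
    ((((pt x).sheafFiber (A := CommRingCat.{u})).map (rm f c).invSharp).hom (invStk f c x a)) =
      ptRing O x ((rstkMap f c x).hom a) := by
  obtain ⟨U, hx, r, rfl⟩ := TopCat.Presheaf.exists_germ_eq O'.obj a
  rw [invStk_germ, rstkMap_germ, ptRing_germ]
  refine ((pt x).toPresheafFiber_naturality_apply (rm f c).invSharp.hom ((Opens.map f).obj U)
    (fib (U := (Opens.map f).obj U) hx) _).trans ?_
  refine congrArg (germRingHom (pt x) (O := O) ((Opens.map f).obj U) (fib (U := (Opens.map f).obj U) hx)) ?_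
  have h : ((rm f c).fn.sheafAdjunctionContinuous CommRingCat.{u} (Opens.grothendieckTopology Y)
      (Opens.grothendieckTopology X)).homEquiv O' O (rm f c).invSharp = (rm f c).sharp :=
    Equiv.apply_symm_apply _ _
  rw [Adjunction.homEquiv_unit] at h
  exact congr((($h).hom.app (op U)).hom r)

/-- Flatness of the stalk at the point, over the stalk of the inverse image, is flatness over `O'_{f x}`. -/
theorem flat_stk_of_point (F : ModSite.Mod O) (x : X)
    (h : @Module.Flat (ModSite.stalkRing (pt x) (rm f c).invRing) (ModSite.stalkAb (pt x) F) _ _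
      (Module.compHom (ModSite.stalkAb (pt x) F)
        (((pt x).sheafFiber (A := CommRingCat.{u})).map (rm f c).invSharp).hom)) :
    @Module.Flat (rstk O' (f x)) (stk F x) _ _ (Module.compHom (stk F x) (rstkMap f c x).hom) := by
  letI : Module (ModSite.stalkRing (pt x) (rm f c).invRing) (ModSite.stalkAb (pt x) F) :=
    Module.compHom _ (((pt x).sheafFiber (A := CommRingCat.{u})).map (rm f c).invSharp).hom
  letI : Module (rstk O' (f x)) (stk F x) := Module.compHom (stk F x) (rstkMap f c x).hom
  letI : Module (rstk O' (f x)) (ModSite.stalkAb (pt x) F) := Module.compHom _ (invStk f c x)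
  letI : Algebra (rstk O' (f x)) (ModSite.stalkRing (pt x) (rm f c).invRing) := (invStk f c x).toAlgebra
  haveI : IsScalarTower (rstk O' (f x)) (ModSite.stalkRing (pt x) (rm f c).invRing) (ModSite.stalkAb (pt x) F) :=
    .of_algebraMap_smul fun _ _ => rfl
  haveI : Module.Flat (rstk O' (f x)) (ModSite.stalkRing (pt x) (rm f c).invRing) :=
    RingHom.Flat.of_bijective (invStk_bijective f c x)
  haveI := h
  haveI : Module.Flat (rstk O' (f x)) (ModSite.stalkAb (pt x) F) :=
    Module.Flat.trans (rstk O' (f x)) (ModSite.stalkRing (pt x) (rm f c).invRing) _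
  refine Module.Flat.of_linearEquiv (R := rstk O' (f x)) (M := ModSite.stalkAb (pt x) F)
    (LinearEquiv.ofBijective
      ({ ptStk F x with
          map_smul' := fun a z => (ptStk_smul F _ z).trans
            (congrArg (fun b => b • ptStk F x z) (invSharp_invStk f c x a).symm) } :
        stk F x →ₗ[rstk O' (f x)] ModSite.stalkAb (pt x) F) (ptStk_bijective F x))

end Groth.Agent.RSpLib
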