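import Groth.Agent.RSpLib.StalkTensor
import Groth.Agent.RSpLib.PointStalk
import Groth.Agent.ModTensor.Flat

/-!
# Exactness of `G ↦ f^* G ⊗ F` for a module `F` flat over the base
-/

set_option autoImplicit false
set_option backward.isDefEq.respectTransparency false
set_option linter.style.haveILetI false
set_option linter.unusedSectionVars false

universe u

open CategoryTheory CategoryTheory.Limits TopologicalSpace Opposite
open scoped TensorProduct

noncomputable section

namespace Groth.Agent.RSpLib

open Groth.Agent.ModTensor

/-- A base change of an injection stays injective after tensoring with a module flat over the base. -/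
theorem injective_rTensor_of_baseChange {R S M N MS NS F : Type u} [CommRing R] [CommRing S] [Algebra R S]
    [AddCommGroup M] [AddCommGroup N] [AddCommGroup MS] [AddCommGroup NS] [AddCommGroup F]
    [Module R M] [Module R N] [Module R MS] [Module R NS] [Module R F]
    [Module S MS] [Module S NS] [Module S F]
    [IsScalarTower R S MS] [IsScalarTower R S NS] [IsScalarTower R S F] [Module.Flat R F]
    {hM : M →ₗ[R] MS} {hN : N →ₗ[R] NS} (bM : IsBaseChange S hM) (bN : IsBaseChange S hN)
    (φ : M →ₗ[R] N) (ψ : MS →ₗ[S] NS) (h : ∀ m, ψ (hM m) = hN (φ m)) (hφ : Function.Injective φ) :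
    Function.Injective (ψ.rTensor F) := by
  let eM : MS ⊗[S] F ≃ₗ[S] F ⊗[R] M := TensorProduct.comm S MS F ≪≫ₗ
    TensorProduct.AlgebraTensorModule.congr (LinearEquiv.refl S F) bM.equiv.symm ≪≫ₗ
      TensorProduct.AlgebraTensorModule.cancelBaseChange R S S F M
  let eN : NS ⊗[S] F ≃ₗ[S] F ⊗[R] N := TensorProduct.comm S NS F ≪≫ₗ
    TensorProduct.AlgebraTensorModule.congr (LinearEquiv.refl S F) bN.equiv.symm ≪≫ₗ
      TensorProduct.AlgebraTensorModule.cancelBaseChange R S S F N
  have hsq : ∀ z, eN (ψ.rTensor F z) = φ.lTensor F (eM z) := fun z => by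
    induction z using TensorProduct.induction_on with
    | zero => simp only [map_zero]
    | add p q hp hq => simp only [map_add, hp, hq]
    | tmul y w =>
      induction y using bM.inductionOn with
      | zero => simp only [TensorProduct.zero_tmul, map_zero]
      | add p q hp hq => simp only [TensorProduct.add_tmul, map_add, hp, hq]
      | smul s y hy =>
        rw [← TensorProduct.smul_tmul', map_smul, map_smul, hy, map_smul]
        induction eM (y ⊗ₜ[S] w) using TensorProduct.induction_on with
        | zero => simp only [smul_zero, map_zero]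
        | add p q hp hq => simp only [smul_add, map_add, hp, hq]
        | tmul a b =>
          rw [TensorProduct.smul_tmul', LinearMap.lTensor_tmul, LinearMap.lTensor_tmul, TensorProduct.smul_tmul']
      | tmul m =>
        have e1 : eM (hM m ⊗ₜ[S] w) = w ⊗ₜ m := by
          simp only [eM, LinearEquiv.trans_apply, TensorProduct.comm_tmul, TensorProduct.AlgebraTensorModule.congr_tmul,
            LinearEquiv.refl_apply, IsBaseChange.equiv_symm_apply,
            TensorProduct.AlgebraTensorModule.cancelBaseChange_tmul, one_smul]
        have e2 : eN (hN (φ m) ⊗ₜ[S] w) = w ⊗ₜ φ m := by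
          simp only [eN, LinearEquiv.trans_apply, TensorProduct.comm_tmul, TensorProduct.AlgebraTensorModule.congr_tmul,
            LinearEquiv.refl_apply, IsBaseChange.equiv_symm_apply,
            TensorProduct.AlgebraTensorModule.cancelBaseChange_tmul, one_smul]
        rw [LinearMap.rTensor_tmul, h, e1, e2, LinearMap.lTensor_tmul]
  intro a b hab
  refine eM.injective (Module.Flat.lTensor_preserves_injective_linearMap φ hφ ?_)
  rw [← hsq, ← hsq, hab]

variable {X Y : TopCat.{u}} {O : TopCat.Sheaf CommRingCat.{u} X} {O' : TopCat.Sheaf CommRingCat.{u} Y}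
  (f : X ⟶ Y)
  (c : O' ⟶ ((Opens.map f).sheafPushforwardContinuous CommRingCat.{u}
    (Opens.grothendieckTopology Y) (Opens.grothendieckTopology X)).obj O)

theorem mono_pull_tensor (F : ModSite.Mod O)
    (hF : ∀ x, @Module.Flat (rstk O' (f x)) (stk F x) _ _ (Module.compHom (stk F x) (rstkMap f c x).hom))
    {M N : ModSite.Mod O'} (φ : M ⟶ N) [Mono φ] :
    Mono (((rm f c).pull ⋙ (ModSite.tensorBi O).flip.obj F).map φ) := by
  show Mono (((ModSite.tensorBi O).map ((rm f c).pull.map φ)).app F)
  refine mono_of_stkMap_injective _ fun x => ?_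
  letI : Algebra (rstk O' (f x)) (rstk O x) := (rstkMap f c x).hom.toAlgebra
  letI := Module.compHom (stk ((rm f c).pull.obj M) x) (rstkMap f c x).hom
  letI := Module.compHom (stk ((rm f c).pull.obj N) x) (rstkMap f c x).hom
  letI := Module.compHom (stk F x) (rstkMap f c x).hom
  haveI : IsScalarTower (rstk O' (f x)) (rstk O x) (stk ((rm f c).pull.obj M) x) :=
    .of_algebraMap_smul fun _ _ => rfl
  haveI : IsScalarTower (rstk O' (f x)) (rstk O x) (stk ((rm f c).pull.obj N) x) :=
    .of_algebraMap_smul fun _ _ => rfl
  haveI : IsScalarTower (rstk O' (f x)) (rstk O x) (stk F x) := .of_algebraMap_smul fun _ _ => rfl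
  haveI : Module.Flat (rstk O' (f x)) (stk F x) := hF x
  have hinj := injective_rTensor_of_baseChange (F := stk F x) (isBaseChange_pullStkL f c M x)
    (isBaseChange_pullStkL f c N x) (stkMap φ (f x)) (stkMap ((rm f c).pull.map φ) x)
    (fun m => pullStk_natural f c φ x m) (stkMap_injective φ (f x))
  intro a b hab
  obtain ⟨a, rfl⟩ := (stalkTensor x ((rm f c).pull.obj M) F).surjective a
  obtain ⟨b, rfl⟩ := (stalkTensor x ((rm f c).pull.obj M) F).surjective b
  rw [stalkTensor_natural_left, stalkTensor_natural_left] at hab
  exact congrArg _ (hinj ((stalkTensor x ((rm f c).pull.obj N) F).injective hab))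

/-- For `F` flat over the base, `G ↦ f^* G ⊗ F` is exact. -/
theorem exact_pull_tensor (F : ModSite.Mod O)
    (hF : ∀ x, @Module.Flat (rstk O' (f x)) (stk F x) _ _ (Module.compHom (stk F x) (rstkMap f c x).hom)) :
    PreservesFiniteLimits ((rm f c).pull ⋙ (ModSite.tensorBi O).flip.obj F) ∧
      PreservesFiniteColimits ((rm f c).pull ⋙ (ModSite.tensorBi O).flip.obj F) := by
  haveI : PreservesFiniteColimits (rm f c).pull := by
    haveI := (rm f c).adj.leftAdjoint_preservesColimits
    infer_instance
  haveI : PreservesFiniteColimits ((rm f c).pull ⋙ (ModSite.tensorBi O).flip.obj F) :=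
    comp_preservesFiniteColimits _ _
  haveI : ((rm f c).pull ⋙ (ModSite.tensorBi O).flip.obj F).Additive := by
    haveI := preservesBinaryBiproducts_of_preservesBinaryCoproducts ((rm f c).pull ⋙ (ModSite.tensorBi O).flip.obj F)
    exact Functor.additive_of_preservesBinaryBiproducts _
  refine ⟨(Functor.preservesFiniteLimits_iff_forall_exact_map_and_mono _).2 fun S hS => ?_, inferInstance⟩
  haveI := hS.mono_f
  haveI := hS.epi_g
  haveI := mono_pull_tensor f c F hF S.f
  exact ⟨hS.exact.map_of_epi_of_preservesCokernel _ inferInstance inferInstance, inferInstance⟩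

end Groth.Agent.RSpLib
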