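import Groth.Agent.PullFlat.TensorNat
import Groth.Agent.RSpLib.PullStalk

/-!
# Stalks of tensor products of sheaves of modules on a ringed space
-/

set_option autoImplicit false
set_option backward.isDefEq.respectTransparency false
set_option linter.unusedSectionVars false
set_option linter.style.haveILetI false

universe u

open CategoryTheory CategoryTheory.Limits TopologicalSpace Opposite MonoidalCategory
open scoped TensorProduct

noncomputable section

namespace Groth.Agent.RSpLib

open Groth.Agent.ModTensor Groth.Agent.PullFlat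

variable {X : TopCat.{u}} {O : TopCat.Sheaf CommRingCat.{u} X} (x : X) (M N : ModSite.Mod O)

/-- The tensor product of two modules. -/
abbrev tmod : ModSite.Mod O := ((ModSite.tensorBi O).obj M).obj N

/-- The section of the tensor product given by two sections. -/
def pairS {U : Opens X} (m : ((pre O (M)).obj (op U) : Type u)) (n : ((pre O (N)).obj (op U) : Type u)) : ((pre O (tmod M N)).obj (op U) : Type u) :=
  pairT O M N (U := U) m n

variable {M N}

theorem exists_germ (P : ModSite.Mod O) (x : X) (z : stk P x) :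
    ∃ (U : Opens X) (hx : x ∈ U) (s : (pre O P).obj (op U)), germ P hx s = z :=
  TopCat.Presheaf.exists_germ_eq (pre O P).presheaf z

theorem res_pairS {U V : Opens X} (h : V ≤ U) (m : ((pre O (M)).obj (op U) : Type u)) (n : ((pre O (N)).obj (op U) : Type u)) :
    res (pre O (tmod M N)) (homOfLE h).op (pairS M N m n) =
      pairS M N (res (pre O M) (homOfLE h).op m) (res (pre O N) (homOfLE h).op n) :=
  res_pairT O M N (homOfLE h) m n

theorem pairS_add_left {U : Opens X} (m m' : ((pre O (M)).obj (op U) : Type u)) (n : ((pre O (N)).obj (op U) : Type u)) :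
    pairS M N (m + m') n = pairS M N m n + pairS M N m' n :=
  pairT_add_left O M N m m' n

theorem pairS_add_right {U : Opens X} (m : ((pre O (M)).obj (op U) : Type u)) (n n' : ((pre O (N)).obj (op U) : Type u)) :
    pairS M N m (n + n') = pairS M N m n + pairS M N m n' :=
  pairT_add_right O M N m n n'

theorem pairS_smul_left {U : Opens X} (r : O.obj.obj (op U)) (m : ((pre O (M)).obj (op U) : Type u)) (n : ((pre O (N)).obj (op U) : Type u)) :
    pairS M N (r • m) n = r • pairS M N m n :=
  pairT_smul_left O M N r m n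

theorem pairS_smul_right {U : Opens X} (r : O.obj.obj (op U)) (m : ((pre O (M)).obj (op U) : Type u)) (n : ((pre O (N)).obj (op U) : Type u)) :
    pairS M N m (r • n) = r • pairS M N m n :=
  pairT_smul_right O M N r m n

/-- The product of two germs, computed on any common neighbourhood, is independent of choices. -/
theorem germ_pairS_congr {U U' : Opens X} (hx : x ∈ U) (hx' : x ∈ U') (m : ((pre O (M)).obj (op U) : Type u)) (n : ((pre O (N)).obj (op U) : Type u))
    (m' : ((pre O (M)).obj (op U') : Type u)) (n' : ((pre O (N)).obj (op U') : Type u))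
    (hm : germ M hx m = germ M hx' m')
    (hn : germ N hx n = germ N hx' n') :
    germ (tmod M N) hx (pairS M N m n) =
      germ (tmod M N) hx' (pairS M N m' n') := by
  obtain ⟨V, hV, i, i', hVm⟩ := TopCat.Presheaf.germ_eq (pre O M).presheaf x hx hx' m m' hm
  obtain ⟨W, hW, k, k', hWn⟩ := TopCat.Presheaf.germ_eq (pre O N).presheaf x hx hx' n n' hn
  have hVW : x ∈ V ⊓ W := ⟨hV, hW⟩
  have h1 : V ⊓ W ≤ U := inf_le_left.trans (leOfHom i)
  have h2 : V ⊓ W ≤ U' := inf_le_left.trans (leOfHom i')
  rw [← germ_res (tmod M N) (homOfLE h1) hVW, res_pairS,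
    ← germ_res (tmod M N) (homOfLE h2) hVW (pairS M N m' n'),
    res_pairS]
  congr 2
  · have := congrArg (res (pre O M) (homOfLE (inf_le_left : V ⊓ W ≤ V)).op) hVm
    change res (pre O M) _ (res (pre O M) i.op m) =
      res (pre O M) _ (res (pre O M) i'.op m') at this
    rw [← res_comp, ← res_comp] at this
    exact this
  · have := congrArg (res (pre O N) (homOfLE (inf_le_right : V ⊓ W ≤ W)).op) hWn
    change res (pre O N) _ (res (pre O N) k.op n) =
      res (pre O N) _ (res (pre O N) k'.op n') at this
    rw [← res_comp, ← res_comp] at this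
    exact this

theorem exists_common_germ (a : stk M x) (b : stk N x) :
    ∃ (U : Opens X) (hx : x ∈ U) (m : ((pre O (M)).obj (op U) : Type u)) (n : ((pre O (N)).obj (op U) : Type u)),
      germ M hx m = a ∧ germ N hx n = b := by
  obtain ⟨U, hU, m, rfl⟩ := exists_germ M x a
  obtain ⟨V, hV, n, rfl⟩ := exists_germ N x b
  exact ⟨U ⊓ V, ⟨hU, hV⟩, res (pre O M) (homOfLE inf_le_left).op m,
    res (pre O N) (homOfLE inf_le_right).op n, germ_res M _ _ m, germ_res N _ _ n⟩

/-- The product of two germs. -/
def germMul (a : stk M x) (b : stk N x) : stk (tmod M N) x :=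
  germ (tmod M N) (U := (exists_common_germ x a b).choose)
    (exists_common_germ x a b).choose_spec.choose
    (pairS M N (exists_common_germ x a b).choose_spec.choose_spec.choose
      (exists_common_germ x a b).choose_spec.choose_spec.choose_spec.choose)

theorem germMul_germ {U : Opens X} (hx : x ∈ U) (m : ((pre O (M)).obj (op U) : Type u)) (n : ((pre O (N)).obj (op U) : Type u)) :
    germMul x (germ M hx m) (germ N hx n) =
      germ (tmod M N) hx (pairS M N m n) :=
  have h := (exists_common_germ x (germ M hx m)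
    (germ N hx n)).choose_spec.choose_spec.choose_spec.choose_spec
  germ_pairS_congr x _ hx _ _ m n h.1 h.2

theorem germMul_add_left (a a' : stk M x) (b : stk N x) :
    germMul x (a + a') b = germMul x a b + germMul x a' b := by
  obtain ⟨U, hU, m, n, rfl, rfl⟩ := exists_common_germ x a b
  obtain ⟨V, hV, m', rfl⟩ := exists_germ M x a'
  have hx : x ∈ U ⊓ V := ⟨hU, hV⟩
  rw [← germ_res M (homOfLE (inf_le_left : U ⊓ V ≤ U)) hx m,
    ← germ_res N (homOfLE (inf_le_left : U ⊓ V ≤ U)) hx n,
    ← germ_res M (homOfLE (inf_le_right : U ⊓ V ≤ V)) hx m',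
    ← map_add, germMul_germ, germMul_germ, germMul_germ, pairS_add_left, map_add]

theorem germMul_add_right (a : stk M x) (b b' : stk N x) :
    germMul x a (b + b') = germMul x a b + germMul x a b' := by
  obtain ⟨U, hU, m, n, rfl, rfl⟩ := exists_common_germ x a b
  obtain ⟨V, hV, n', rfl⟩ := exists_germ N x b'
  have hx : x ∈ U ⊓ V := ⟨hU, hV⟩
  rw [← germ_res M (homOfLE (inf_le_left : U ⊓ V ≤ U)) hx m,
    ← germ_res N (homOfLE (inf_le_left : U ⊓ V ≤ U)) hx n,
    ← germ_res N (homOfLE (inf_le_right : U ⊓ V ≤ V)) hx n',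
    ← map_add, germMul_germ, germMul_germ, germMul_germ, pairS_add_right, map_add]

theorem germMul_smul (r : rstk O x) (a : stk M x) (b : stk N x) :
    germMul x (r • a) b = r • germMul x a b ∧ germMul x a (r • b) = r • germMul x a b := by
  obtain ⟨U, hU, m, n, rfl, rfl⟩ := exists_common_germ x a b
  obtain ⟨V, hV, r, rfl⟩ := TopCat.Presheaf.exists_germ_eq O.obj r
  have hx : x ∈ U ⊓ V := ⟨hU, hV⟩
  rw [← germ_res M (homOfLE (inf_le_left : U ⊓ V ≤ U)) hx m,
    ← germ_res N (homOfLE (inf_le_left : U ⊓ V ≤ U)) hx n,
    ← TopCat.Presheaf.germ_res_apply O.obj (homOfLE (inf_le_right : U ⊓ V ≤ V)) x hx r]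
  constructor
  · erw [← germ_smul' M hx]
    erw [germMul_germ, germMul_germ, pairS_smul_left]
    exact germ_smul' (tmod M N) hx _ _
  · erw [← germ_smul' N hx]
    erw [germMul_germ, germMul_germ, pairS_smul_right]
    exact germ_smul' (tmod M N) hx _ _

/-- The comparison `M_x ⊗ N_x → (M ⊗ N)_x`. -/
def stalkTensorHom : stk M x ⊗[rstk O x] stk N x →ₗ[rstk O x]
    stk (tmod M N) x :=
  TensorProduct.lift (LinearMap.mk₂ (rstk O x) (germMul x) (germMul_add_left x)
    (fun r a b => (germMul_smul x r a b).1) (germMul_add_right x) (fun r a b => (germMul_smul x r a b).2))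

theorem stalkTensorHom_tmul {U : Opens X} (hx : x ∈ U) (m : ((pre O (M)).obj (op U) : Type u)) (n : ((pre O (N)).obj (op U) : Type u)) :
    stalkTensorHom x (germ M hx m ⊗ₜ germ N hx n) =
      germ (tmod M N) hx (pairS M N m n) :=
  (TensorProduct.lift.tmul _ _).trans (germMul_germ x hx m n)

/-- The pairing of germs on sections. -/
def pairGerm (U : Opens X) :
    ((pre O (M)).obj (op U) : Type u) ⊗[O.obj.obj (op U)] ((pre O (N)).obj (op U) : Type u) →+
      SkyObj x (stk M x ⊗[rstk O x] stk N x) U :=
  TensorProduct.liftAddHom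
    (AddMonoidHom.mk' (fun m => AddMonoidHom.mk'
        (fun n => (fun h => germ M h.down m ⊗ₜ germ N h.down n :
          SkyObj x _ U))
        fun n n' => funext fun h => by
          show _ ⊗ₜ germ N h.down (n + n') = _
          rw [map_add, TensorProduct.tmul_add]
          rfl)
      fun m m' => AddMonoidHom.ext fun n => funext fun h => by
        show germ M h.down (m + m') ⊗ₜ _ = _
        rw [map_add, TensorProduct.add_tmul]
        rfl)
    fun r m n => funext fun h => by
      show germ M h.down (r • m) ⊗ₜ _ = _ ⊗ₜ germ N h.down (r • n)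
      refine (congrArg (fun t : stk M x => t ⊗ₜ[rstk O x] germ N h.down n)
        (germ_smul' M h.down r m)).trans (Eq.trans ?_
        (congrArg (fun t : stk N x => germ M h.down m ⊗ₜ[rstk O x] t)
          (germ_smul' N h.down r n)).symm)
      exact TensorProduct.smul_tmul (R := rstk O x) (R' := rstk O x)
        (TopCat.Presheaf.germ O.obj U x h.down r) (germ M h.down m : stk M x)
        (germ N h.down n : stk N x)

theorem pairGerm_smul (U : Opens X) (r : O.obj.obj (op U)) (z : ((pre O (M)).obj (op U) : Type u) ⊗[O.obj.obj (op U)] ((pre O (N)).obj (op U) : Type u)) :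
    pairGerm x U (r • z) = fun h => TopCat.Presheaf.germ O.obj U x h.down r • pairGerm (M := M) (N := N) x U z h := by
  induction z using TensorProduct.induction_on with
  | zero =>
    rw [smul_zero, map_zero]
    funext h
    exact (smul_zero _).symm
  | tmul m n =>
    funext h
    show germ M h.down (r • m) ⊗ₜ[rstk O x] germ N h.down n =
      TopCat.Presheaf.germ O.obj U x h.down r • (germ M h.down m ⊗ₜ germ N h.down n)
    rw [TensorProduct.smul_tmul']
    exact congrArg (· ⊗ₜ _) (germ_smul' M h.down r m)
  | add a b ha hb =>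
    rw [smul_add, map_add, ha, hb, map_add]
    funext h
    exact (smul_add _ _ _).symm

theorem pairGerm_res {U V : Opens X} (i : V ⟶ U) (z : ((pre O (M)).obj (op U) : Type u) ⊗[O.obj.obj (op U)] ((pre O (N)).obj (op U) : Type u)) :
    pairGerm x V (res (pre O M ⊗ pre O N) i.op z) =
      (skyAb x (stk M x ⊗[rstk O x] stk N x)).map i.op
        (pairGerm x U z) := by
  induction z using TensorProduct.induction_on with
  | zero =>
    exact ((congrArg _ (map_zero _)).trans (map_zero _)).trans
      ((congrArg _ (map_zero (pairGerm x U))).trans (map_zero _)).symm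
  | tmul m n =>
    refine (congrArg _ (res_tmul (pre O M) (pre O N) i.op m n)).trans ?_
    funext h
    show germ M h.down (res (pre O M) i.op m) ⊗ₜ[rstk O x]
        germ N h.down (res (pre O N) i.op n) =
      germ M _ m ⊗ₜ germ N _ n
    rw [germ_res, germ_res]
  | add a b ha hb =>
    exact ((congrArg _ (map_add _ a b)).trans ((map_add _ _ _).trans (congrArg₂ (· + ·) ha hb))).trans
      ((congrArg _ (map_add (pairGerm x U) a b)).trans (map_add _ _ _)).symm

variable (M N)

/-- The presheaf pairing into the skyscraper. -/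
def pairSkyPre : pre O M ⊗ pre O N ⟶
    pre O (sky O x (stk M x ⊗[rstk O x] stk N x)) :=
  PresheafOfModules.homMk
    { app := fun U => AddCommGrpCat.ofHom (pairGerm x U.unop)
      naturality := fun {U V} i => by
        refine AddCommGrpCat.hom_ext (AddMonoidHom.ext fun z => ?_)
        exact pairGerm_res x i.unop z }
    fun U r z => pairGerm_smul x U.unop r z

/-- The map from the tensor product to the skyscraper. -/
def pairSky : tmod M N ⟶ sky O x (stk M x ⊗[rstk O x] stk N x) :=
  ((PresheafOfModules.sheafificationAdjunction (𝟙 (ModSite.ringSh O).obj)).homEquiv _ _).symm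
    (pairSkyPre x M N)

/-- The comparison `(M ⊗ N)_x → M_x ⊗ N_x`. -/
def stalkTensorInv : stk (tmod M N) x →ₗ[rstk O x]
    stk M x ⊗[rstk O x] stk N x :=
  ofSky (pairSky x M N)

variable {M N}

theorem stalkTensorInv_germ {U : Opens X} (hx : x ∈ U) (m : ((pre O (M)).obj (op U) : Type u)) (n : ((pre O (N)).obj (op U) : Type u)) :
    stalkTensorInv x M N (germ (tmod M N) hx (pairS M N m n)) =
      germ M hx m ⊗ₜ germ N hx n := by
  refine (ofSky_germ _ hx _).trans ?_
  let adj := PresheafOfModules.sheafificationAdjunction (𝟙 (ModSite.ringSh O).obj)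
  have h' : shUnit O (pre O M ⊗ pre O N) ≫
      (preFunctor O).map ((adj.homEquiv _ _).symm (pairSkyPre x M N)) = pairSkyPre x M N :=
    (adj.homEquiv_unit _ _ _).symm.trans (Equiv.apply_symm_apply _ _)
  exact congrFun (congr(($h').app (op U) (m ⊗ₜ[O.obj.obj (op U)] n : ((pre O (M)).obj (op U) : Type u) ⊗[O.obj.obj (op U)] ((pre O (N)).obj (op U) : Type u)))) ⟨hx⟩

theorem inv_hom (z : stk M x ⊗[rstk O x] stk N x) :
    stalkTensorInv x M N (stalkTensorHom x z) = z := by
  induction z using TensorProduct.induction_on with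
  | zero => rw [map_zero, map_zero]
  | tmul a b =>
    obtain ⟨U, hx, m, n, rfl, rfl⟩ := exists_common_germ x a b
    rw [stalkTensorHom_tmul, stalkTensorInv_germ]
  | add a b ha hb => rw [map_add, map_add, ha, hb]

theorem hom_inv (z : stk (tmod M N) x) :
    stalkTensorHom x (stalkTensorInv x M N z) = z := by
  obtain ⟨U, hx, s, rfl⟩ := exists_germ (tmod M N) x z
  obtain ⟨S, hS, hS'⟩ := loc_sum_pairT O M N (U := U) (fun _ : PUnit.{1} => s)
  obtain ⟨V, i, hi, hV⟩ := hS x hx
  obtain ⟨r, m, n, hmn⟩ := hS' i hi
  have h : res (pre O (tmod M N)) i.op s =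
      ∑ j, pairS M N (m PUnit.unit j) (n PUnit.unit j) := hmn PUnit.unit
  rw [← germ_res (tmod M N) i hV s, h]
  simp only [map_sum, stalkTensorInv_germ, stalkTensorHom_tmul]

variable (M N)

/-- The stalk of a tensor product. -/
def stalkTensor : stk M x ⊗[rstk O x] stk N x ≃ₗ[rstk O x]
    stk (tmod M N) x :=
  LinearEquiv.ofLinear (stalkTensorHom x) (stalkTensorInv x M N)
    (LinearMap.ext (hom_inv x)) (LinearMap.ext (inv_hom x))

variable {M N}

theorem tensorBi_app_pairS_left {M' : ModSite.Mod O} (g : M ⟶ M') {U : Opens X} (m : ((pre O (M)).obj (op U) : Type u)) (n : ((pre O (N)).obj (op U) : Type u)) :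
    lin ((preFunctor O).map (((ModSite.tensorBi O).map g).app N)) (op U) (pairS M N m n) = pairS M' N (lin ((preFunctor O).map g) (op U) m) n :=
  pairT_map (O := O) g N m n

theorem tensorBi_app_pairS_right {N' : ModSite.Mod O} (g : N ⟶ N') {U : Opens X} (m : ((pre O (M)).obj (op U) : Type u)) (n : ((pre O (N)).obj (op U) : Type u)) :
    lin ((preFunctor O).map (((ModSite.tensorBi O).obj M).map g)) (op U) (pairS M N m n) = pairS M N' m (lin ((preFunctor O).map g) (op U) n) :=
  (congr(($(shUnit_naturality O (pre O M ◁ (preFunctor O).map g))).app (op U)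
    (m ⊗ₜ[O.obj.obj (op U)] n : ((pre O (M)).obj (op U) : Type u) ⊗[O.obj.obj (op U)] ((pre O (N)).obj (op U) : Type u)))).symm

theorem stalkTensor_natural_left {M' : ModSite.Mod O} (g : M ⟶ M')
    (z : stk M x ⊗[rstk O x] stk N x) :
    stkMap (((ModSite.tensorBi O).map g).app N) x (stalkTensor x M N z) =
      stalkTensor x M' N ((stkMap g x).rTensor _ z) := by
  induction z using TensorProduct.induction_on with
  | zero => simp only [map_zero]
  | tmul a b =>
    obtain ⟨U, hx, m, n, rfl, rfl⟩ := exists_common_germ x a b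
    show stkMap _ x (stalkTensorHom x _) = stalkTensorHom x _
    rw [stalkTensorHom_tmul, LinearMap.rTensor_tmul]
    erw [stkMap_germ, stkMap_germ]
    rw [stalkTensorHom_tmul]
    exact congrArg _ (tensorBi_app_pairS_left g m n)
  | add a b ha hb => rw [map_add, map_add, ha, hb, map_add, map_add]

theorem stalkTensor_natural_right {N' : ModSite.Mod O} (g : N ⟶ N')
    (z : stk M x ⊗[rstk O x] stk N x) :
    stkMap (((ModSite.tensorBi O).obj M).map g) x (stalkTensor x M N z) =
      stalkTensor x M N' ((stkMap g x).lTensor _ z) := by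
  induction z using TensorProduct.induction_on with
  | zero => simp only [map_zero]
  | tmul a b =>
    obtain ⟨U, hx, m, n, rfl, rfl⟩ := exists_common_germ x a b
    show stkMap _ x (stalkTensorHom x _) = stalkTensorHom x _
    rw [stalkTensorHom_tmul, LinearMap.lTensor_tmul]
    erw [stkMap_germ, stkMap_germ]
    rw [stalkTensorHom_tmul]
    exact congrArg _ (tensorBi_app_pairS_right g m n)
  | add a b ha hb => rw [map_add, map_add, ha, hb, map_add, map_add]

end Groth.Agent.RSpLib
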